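/-
S4274 (architect helper5, blueprint tools/blueprints/S4274.md): the Boolean sieve for simple groups all of whose odd
Sylow subgroups have prime order.  Data per odd prime `p`: a triple `(n, k, c)` = (number of Sylow `p`-subgroups,
`|N(P) : C(P)|`, `|C(P)| / p`).
-/
import Mathlib

set_option autoImplicit false

namespace Cfsg.Agent.Lib.H5.SV

/-- candidate triples `(n, k, c)` for the prime `p` in a simple group of order `N` -/
def cands (N p : ℕ) : List (ℕ × ℕ × ℕ) :=
  (List.range (N / p / p + 1)).flatMap fun j =>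
    if j ≠ 0 ∧ (N / p) % (1 + p * j) = 0 ∧ ¬ (1 + p * j ≤ 12 ∧ ¬ 2 * N ∣ (1 + p * j).factorial) then
      ((List.range p).filter fun k =>
        decide (k ≠ 0 ∧ k ≠ 1 ∧ (p - 1) % k = 0 ∧ (N / (1 + p * j)) % (p * k) = 0)).map
          fun k => (1 + p * j, k, N / (1 + p * j) / (p * k))
    else []

/-- the fixed point test: `tp = (n_p, k_p, c_p)`, `tr = (n_r, k_r, c_r)`, to be used when `r ∣ c_p` -/
def fixOK (N p r : ℕ) (tp tr : ℕ × ℕ × ℕ) : Bool :=
  (List.range (N / tp.1 / (p * r) + 1)).any fun y =>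
    decide (y ≠ 0 ∧ (N / tp.1) % (p * r * y) = 0 ∧ (N / tr.1) % (p * r * y) = 0 ∧
      (N / tr.1 / (p * r * y)) % p = 1 ∧ (N / tr.1 / (p * r * y)) % r = tp.1 % r ∧
      N / tr.1 / (p * r * y) ≤ tp.1)

/-- the pair test -/
def pairOK (N p r : ℕ) (tp tr : ℕ × ℕ × ℕ) : Bool :=
  (decide (tp.2.2 % r ≠ 0) || fixOK N p r tp tr) && (decide (tr.2.2 % p ≠ 0) || fixOK N r p tr tp)

/-- the number of `p`-singular elements, summed -/
def sumS (l : List (ℕ × ℕ × ℕ × ℕ)) : ℕ :=
  (l.map fun a => a.2.1 * a.2.2.2 * (a.1 - 1)).sum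

/-- the bound for the pairwise intersections -/
def sumI (l : List (ℕ × ℕ × ℕ × ℕ)) : ℕ :=
  (l.map fun a => (l.map fun b =>
    if a.1 < b.1 ∧ a.2.2.2 % b.1 = 0 then a.2.1 * (a.2.2.2 / b.1) * (a.1 - 1) * (b.1 - 1) else 0).sum).sum

/-- the counting test; entries `(p, n, k, c)` -/
def countOK (N two : ℕ) (l : List (ℕ × ℕ × ℕ × ℕ)) : Bool :=
  decide (sumS l + two ≤ N + sumI l)

/-- depth first search for an admissible configuration -/
def search (N two : ℕ) : List ℕ → List (ℕ × ℕ × ℕ × ℕ) → Bool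
  | [], chosen => countOK N two chosen
  | p :: ps, chosen =>
    (cands N p).any fun t =>
      (chosen.all fun a => pairOK N a.1 p a.2 t) && search N two ps ((p, t) :: chosen)

/-- the sieve: no admissible configuration -/
def sieve (N two : ℕ) (ps : List ℕ) : Bool := !search N two ps []

end Cfsg.Agent.Lib.H5.SV
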