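/-
S4274 (architect helper5): the real Sylow data `dat G p = (n_p, |N(P) : C(P)|, |C(P)| / p)` of a finite group.
-/
import Mathlib
import Cfsg.Agent.Lib.H5.SV.Defs

set_option autoImplicit false

namespace Cfsg.Agent.Lib.H5.SV

/-- the chosen Sylow `p`-subgroup -/
noncomputable def syl (G : Type*) [Group G] (p : ℕ) : Sylow p G := default

/-- `(n_p, |N(P) : C(P)|, |C(P)| / p)` -/
noncomputable def dat (G : Type*) [Group G] (p : ℕ) : ℕ × ℕ × ℕ :=
  (Nat.card (Sylow p G),
   (Subgroup.centralizer ((syl G p : Subgroup G) : Set G)).relIndex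
     (Subgroup.normalizer ((syl G p : Subgroup G) : Set G)),
   Nat.card (Subgroup.centralizer ((syl G p : Subgroup G) : Set G)) / p)

theorem dat_fst (G : Type*) [Group G] (p : ℕ) : (dat G p).1 = Nat.card (Sylow p G) := rfl

theorem dat_snd (G : Type*) [Group G] (p : ℕ) : (dat G p).2.1 =
    (Subgroup.centralizer ((syl G p : Subgroup G) : Set G)).relIndex
      (Subgroup.normalizer ((syl G p : Subgroup G) : Set G)) := rfl

theorem dat_thd (G : Type*) [Group G] (p : ℕ) : (dat G p).2.2 =
    Nat.card (Subgroup.centralizer ((syl G p : Subgroup G) : Set G)) / p := rfl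

end Cfsg.Agent.Lib.H5.SV
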